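import Cfsg.Agent.Coprime.Thompson

/-!
# Frobenius groups of automorphisms with fixed-point-free kernel: basic lemmas
-/

namespace CF.FrobNil

open Subgroup CF.Solv CF.Coprime Cfsg
open scoped Pointwise commutatorElement IsMulCommutative

universe u

variable {G : Type u} [Group G]

/-- The `π`-core of the subgroup `F`, as a subgroup of the ambient group. -/
abbrev pc (π : Set ℕ) (F : Subgroup G) : Subgroup G := (piCore π F).map F.subtype

theorem pc_le (π : Set ℕ) (F : Subgroup G) : pc π F ≤ F := map_subtype_le _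

theorem norm_pc (π : Set ℕ) (F : Subgroup G) :
    normalizer (F : Set G) ≤ normalizer (pc π F : Set G) :=
  normalizer_le_normalizer_map_subtype _

theorem le_pc [Finite G] {π : Set ℕ} {F P : Subgroup G} [Group.IsNilpotent F] (h : P ≤ F)
    (hP : PiNum π (Nat.card P)) : P ≤ pc π F := by
  rw [← map_subgroupOf_eq_of_le h]
  exact map_mono (le_piCore_of_isNilpotent (piNum_card_subgroupOf hP F))

theorem pc_sup [Finite G] (π : Set ℕ) (F : Subgroup G) [Group.IsNilpotent F] :
    pc π F ⊔ pc πᶜ F = F := by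
  rw [← Subgroup.map_sup, piCore_sup_piCore_compl, ← MonoidHom.range_eq_map, range_subtype]

theorem pc_isPGroup [Finite G] (p : ℕ) [Fact p.Prime] (F : Subgroup G) :
    IsPGroup p (pc {p} F) :=
  isPGroup_iff_piNum_singleton.mpr (piNum_card_map_piCore F)

theorem pc_coprime [Finite G] {p : ℕ} [hp : Fact p.Prime] (F : Subgroup G) {N : Subgroup G}
    (hN : IsPGroup p N) : (Nat.card (pc {p}ᶜ F)).Coprime (Nat.card N) :=
  ((isPGroup_iff_piNum_singleton.mp hN).coprime (piNum_card_map_piCore F)).symm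

theorem mem_cent_of_sup {A B : Subgroup G} {x : G} (ha : x ∈ centralizer (A : Set G))
    (hb : x ∈ centralizer (B : Set G)) : x ∈ centralizer ((A ⊔ B : Subgroup G) : Set G) := by
  have : A ⊔ B ≤ centralizer {x} := sup_le
    (fun a h => mem_centralizer_singleton_iff.mpr (mem_centralizer_iff.mp ha a h))
    (fun a h => mem_centralizer_singleton_iff.mpr (mem_centralizer_iff.mp hb a h))
  exact mem_centralizer_iff.mpr fun y hy => mem_centralizer_singleton_iff.mp (this hy)

theorem eq_one_of_bot {A B : Subgroup G} (h : A ⊓ B = ⊥) {x : G} (ha : x ∈ A) (hb : x ∈ B) :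
    x = 1 := mem_bot.mp (h ▸ (⟨ha, hb⟩ : x ∈ A ⊓ B))

/-- If the nilpotent group `F` acts without fixed points on a `p`-group, so does `O_{p'}(F)`. -/
theorem fix_pc [Finite G] {p : ℕ} [Fact p.Prime] {N F : Subgroup G} [Group.IsNilpotent F]
    (hN : IsPGroup p N) (hFN : F ≤ normalizer (N : Set G))
    (hC : N ⊓ centralizer (F : Set G) = ⊥) :
    N ⊓ centralizer (pc {p}ᶜ F : Set G) = ⊥ := by
  by_contra h
  obtain ⟨z, hz, hz1, hzc⟩ := Fgs1.exists_fixed_of_isPGroup (pc_isPGroup p F)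
    (le_normalizer_inf ((pc_le _ F).trans hFN) ((pc_le _ F).trans (le_normalizer.trans
      ((norm_pc _ F).trans (normalizer_le_normalizer_centralizer _)))))
    (hN.to_le inf_le_left) h
  refine hz1 (eq_one_of_bot hC hz.1 ?_)
  have := mem_cent_of_sup hzc hz.2
  rwa [pc_sup] at this

/-- The complement has nontrivial fixed points on a nontrivial abelian `p`-group. -/
theorem fixH_ne_bot [Finite G] {p : ℕ} [Fact p.Prime] {V F H : Subgroup G} [Group.IsNilpotent F]
    [IsMulCommutative V] (hV : IsPGroup p V) (hV1 : V ≠ ⊥) (hFV : F ≤ normalizer (V : Set G))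
    (hHV : H ≤ normalizer (V : Set G)) (hHF : H ≤ normalizer (F : Set G)) (hs : SemiReg H F)
    (hC : V ⊓ centralizer (F : Set G) = ⊥) : V ⊓ centralizer (H : Set G) ≠ ⊥ := by
  intro h
  have h1 := le_centralizer_of_semiReg_of_isMulCommutative H (pc {p}ᶜ F) V
    (hHF.trans (norm_pc _ F)) (hs.mono le_rfl (pc_le _ F)) hHV ((pc_le _ F).trans hFV)
    (pc_coprime F hV) h
  have h2 := fix_pc hV hFV hC
  rw [inf_eq_left.mpr (le_centralizer_iff.mp h1)] at h2
  exact hV1 h2

/-- A class of subgroups under `K` stable under `M` has an `M`-invariant member if a normal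
subgroup `D` of `M` acts coprimely and without fixed points on `K`. -/
theorem exists_inv_conj [Finite G] {D K M : Subgroup G} (hMK : M ≤ normalizer (K : Set G))
    (hDM : D ≤ M) (hMD : M ≤ normalizer (D : Set G))
    (hcop : (Nat.card D).Coprime (Nat.card K)) [Group.IsSolvable D]
    (hC : K ⊓ centralizer (D : Set G) = ⊥) (S : Subgroup G)
    (h : ∀ m ∈ M, ∃ k ∈ K, MulAut.conj k • S = MulAut.conj m • S) :
    ∃ k ∈ K, M ≤ normalizer ((MulAut.conj k • S : Subgroup G) : Set G) := by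
  obtain ⟨k, hk, hD⟩ := exists_invariant_conj D K (hDM.trans hMK) hcop (Or.inl inferInstance) S
    fun a ha => h a (hDM ha)
  refine ⟨k, hk, fun m hm => ?_⟩
  obtain ⟨k', hk', e⟩ := h m hm
  have e1 : MulAut.conj (m * k * m⁻¹ * k' * k⁻¹) • MulAut.conj k • S =
      MulAut.conj m • MulAut.conj k • S := by
    rw [conj_smul_conj_smul, conj_smul_conj_smul,
      show m * k * m⁻¹ * k' * k⁻¹ * k = m * k * m⁻¹ * k' by group, ← conj_smul_conj_smul, e,
      conj_smul_conj_smul]
    congr 2; group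
  have hD' : D ≤ normalizer ((MulAut.conj (m * k * m⁻¹ * k' * k⁻¹) • MulAut.conj k • S :
      Subgroup G) : Set G) := by
    rw [e1, normalizer_conj_smul]
    intro d hd
    rw [mem_conj_smul_iff]
    refine hD ?_
    simpa using conj_mem_of_le_normalizer hMD (inv_mem hm) hd
  obtain ⟨c, hc, e2⟩ := exists_centralizer_conj_eq D K (hDM.trans hMK) hcop (Or.inl inferInstance)
    _ _ (K.mul_mem (K.mul_mem (conj_mem_of_le_normalizer hMK hm hk) hk') (inv_mem hk)) hD hD'
  rw [hC, mem_bot] at hc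
  rw [hc, e1, map_one, one_smul] at e2
  exact conj_smul_eq_iff.mp e2.symm

/-- Fixed-point-freeness of `F` passes to the quotient by a normal `p`-subgroup. -/
theorem fixF_map [Finite G] {p : ℕ} [Fact p.Prime] {X F : Subgroup G} (N : Subgroup G) [N.Normal]
    [Group.IsNilpotent F] (hN : IsPGroup p N) (hNX : N ≤ X) (hFX : F ≤ normalizer (X : Set G))
    (hC : X ⊓ centralizer (F : Set G) = ⊥) :
    X.map (QuotientGroup.mk' N) ⊓ centralizer (F.map (QuotientGroup.mk' N) : Set (G ⧸ N)) = ⊥ := by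
  have hC' : N ⊓ centralizer (F : Set G) = ⊥ := eq_bot_iff.mpr (hC ▸ inf_le_inf_right _ hNX)
  have h1 := fix_pc hN le_normalizer_of_normal hC'
  have : Group.IsNilpotent (pc {p}ᶜ F) := isNilpotent_of_le (pc_le _ F)
  have h2 := map_inf_centralizer (QuotientGroup.mk' N) (pc {p}ᶜ F) X ((pc_le _ F).trans hFX)
    (by rw [QuotientGroup.ker_mk', inf_eq_right.mpr hNX]; exact pc_coprime F hN)
    (Or.inl inferInstance)
  rw [eq_bot_iff]
  intro x hx
  have h3 : x ∈ (X ⊓ centralizer (pc {p}ᶜ F : Set G)).map (QuotientGroup.mk' N) := by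
    rw [h2]
    exact ⟨hx.1, centralizer_le (SetLike.coe_subset_coe.mpr (map_mono (pc_le _ F))) hx.2⟩
  obtain ⟨y, hy, rfl⟩ := h3
  have : y = 1 := by
    refine eq_one_of_bot hC hy.1 (mem_centralizer_iff.mpr fun f hf => ?_)
    have h4 : f * y * f⁻¹ * y⁻¹ ∈ N := by
      rw [← QuotientGroup.eq_one_iff]
      have := mem_centralizer_iff.mp hx.2 _ (mem_map_of_mem (QuotientGroup.mk' N) hf)
      simp only [QuotientGroup.mk'_apply] at this
      simp [this]
    have h5 := eq_one_of_bot h1 h4 (mul_mem (conj_mem_of_le_normalizer (le_normalizer.trans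
      ((norm_pc _ F).trans (normalizer_le_normalizer_centralizer _))) hf hy.2) (inv_mem hy.2))
    rw [mul_inv_eq_one, mul_inv_eq_iff_eq_mul] at h5
    exact h5
  simp [this]

/-- A free action of `H` by conjugation on `F^#` admits an equivariant map to `H`. -/
theorem exists_equivariant {F H : Subgroup G} (hHF : H ≤ normalizer (F : Set G))
    (hs : SemiReg H F) : ∃ κ : G → G, ∀ d ∈ F, d ≠ 1 → κ d ∈ H ∧
      ∀ g ∈ H, κ (g * d * g⁻¹) = g * κ d := by
  classical
  let r : Setoid G := ⟨fun a b => ∃ h ∈ H, h * a * h⁻¹ = b,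
    ⟨fun a => ⟨1, one_mem _, by simp⟩,
     fun ⟨h, hh, e⟩ => ⟨h⁻¹, inv_mem hh, by rw [← e]; group⟩,
     fun ⟨h, hh, e⟩ ⟨k, hk, e'⟩ => ⟨k * h, mul_mem hk hh, by rw [← e', ← e]; group⟩⟩⟩
  have hex : ∀ d : G, ∃ h ∈ H, h * (Quotient.mk r d).out * h⁻¹ = d := fun d => Quotient.mk_out (s := r) d
  choose κ hκ e using hex
  refine ⟨κ, fun d hd hd1 => ⟨hκ d, fun g hg => ?_⟩⟩
  have e1 : Quotient.mk r (g * d * g⁻¹) = Quotient.mk r d :=
    (Quotient.sound (s := r) ⟨g, hg, rfl⟩).symm
  have e2 := e (g * d * g⁻¹)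
  rw [e1] at e2
  have e3 : (Quotient.mk r d).out = (κ d)⁻¹ * d * κ d := by
    conv_rhs => rw [← e d]
    rw [e d]
    have := e d
    calc (Quotient.mk r d).out = (κ d)⁻¹ * (κ d * (Quotient.mk r d).out * (κ d)⁻¹) * κ d := by group
      _ = _ := by rw [this]
  rw [e3] at e2
  have hm : g⁻¹ * κ (g * d * g⁻¹) * (κ d)⁻¹ ∈ H :=
    mul_mem (mul_mem (inv_mem hg) (hκ _)) (inv_mem (hκ _))
  rcases hs.eq_one hm hd (by
    have : g⁻¹ * κ (g * d * g⁻¹) * (κ d)⁻¹ * d =
      g⁻¹ * (κ (g * d * g⁻¹) * ((κ d)⁻¹ * d * κ d) * (κ (g * d * g⁻¹))⁻¹) *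
        κ (g * d * g⁻¹) * (κ d)⁻¹ := by group
    rw [this, e2]; group) with h | h
  · rw [mul_inv_eq_one, inv_mul_eq_iff_eq_mul] at h
    exact h
  · exact (hd1 h).elim

/-- Vanishing of `H¹(H, V)`. -/
theorem cocycle_triv {A V : Type*} [Group A] [Finite A] [CommGroup V] (φ : A →* MulAut V)
    {F H : Subgroup A} (hHF : H ≤ normalizer (F : Set A)) (hs : SemiReg H F)
    (hF : ∀ v, (∀ f ∈ F, φ f v = v) → v = 1) (c : A → V)
    (hc : ∀ g ∈ H, ∀ h ∈ H, c (g * h) = c g * φ g (c h)) :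
    ∃ b : V, ∀ g ∈ H, φ g b = b * (c g)⁻¹ := by
  classical
  have := Fintype.ofFinite A
  obtain ⟨κ, hκ⟩ := exists_equivariant hHF hs
  let T : Finset A := Finset.univ.filter fun d => d ∈ F ∧ d ≠ 1
  have hT : ∀ d, d ∈ T ↔ d ∈ F ∧ d ≠ 1 := by simp [T]
  have hN : ∀ v : V, ∏ d ∈ T, φ d v = v⁻¹ := by
    intro v
    let T' : Finset A := Finset.univ.filter fun d => d ∈ F
    have h1 : ∏ d ∈ T', φ d v = 1 := by
      refine hF _ fun f hf => ?_
      rw [map_prod]
      refine Finset.prod_bij (fun d _ => f * d) (fun d hd => ?_) (fun a _ b _ h => by simpa using h)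
        (fun d hd => ⟨f⁻¹ * d, ?_, by simp⟩) (fun d _ => by simp)
      · simp only [T', Finset.mem_filter, Finset.mem_univ, true_and] at hd ⊢
        exact mul_mem hf hd
      · simp only [T', Finset.mem_filter, Finset.mem_univ, true_and] at hd ⊢
        exact mul_mem (inv_mem hf) hd
    have h2 : T = T'.erase 1 := by
      ext d; simp [T, T', and_comm]
    rw [← Finset.mul_prod_erase T' _ (a := 1) (by simp [T']), ← h2, map_one, MulAut.one_apply]
      at h1
    exact eq_inv_of_mul_eq_one_right h1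
  refine ⟨(∏ d ∈ T, φ d (c (κ d)))⁻¹, fun g hg => ?_⟩
  have h1 : φ g (∏ d ∈ T, φ d (c (κ d))) = ∏ d ∈ T, (φ d (c (κ d)) * (φ d (c g))⁻¹) := by
    rw [map_prod]
    refine Finset.prod_bij (fun d _ => g * d * g⁻¹) (fun d hd => ?_)
      (fun a _ b _ h => by simpa using h) (fun d hd => ⟨g⁻¹ * d * g, ?_, by group⟩)
      (fun d hd => ?_)
    · rw [hT] at hd ⊢
      exact ⟨conj_mem_of_le_normalizer hHF hg hd.1, by simpa using hd.2⟩
    · rw [hT] at hd ⊢
      refine ⟨by simpa using conj_mem_of_le_normalizer hHF (inv_mem hg) hd.1, fun h => hd.2 ?_⟩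
      have : d = g * (g⁻¹ * d * g) * g⁻¹ := by group
      rw [this, h]; group
    · rw [hT] at hd
      obtain ⟨h1, h2⟩ := hκ d hd.1 hd.2
      rw [h2 g hg, hc g hg _ h1, map_mul (φ (g * d * g⁻¹)), mul_inv_cancel_comm]
      simp
  rw [map_inv, h1, Finset.prod_mul_distrib, Finset.prod_inv_distrib, hN, inv_inv, mul_inv]

/-- Fixed points of `H` lift through an abelian normal subgroup. -/
theorem fixH_map [Finite G] {X F H : Subgroup G} (V : Subgroup G) [V.Normal] [IsMulCommutative V]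
    (hVX : V ≤ X) (hHF : H ≤ normalizer (F : Set G)) (hs : SemiReg H F)
    (hC : V ⊓ centralizer (F : Set G) = ⊥) :
    X.map (QuotientGroup.mk' V) ⊓ centralizer (H.map (QuotientGroup.mk' V) : Set (G ⧸ V)) ≤
      (X ⊓ centralizer (H : Set G)).map (QuotientGroup.mk' V) := by
  classical
  rintro _ ⟨⟨x, hx, rfl⟩, hxc⟩
  have h1 : ∀ h ∈ H, x⁻¹ * (h * x * h⁻¹) ∈ V := by
    intro h hh
    rw [← QuotientGroup.eq_one_iff]
    have := mem_centralizer_iff.mp hxc _ (mem_map_of_mem (QuotientGroup.mk' V) hh)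
    simp only [QuotientGroup.mk'_apply] at this
    simp [this]
  let c : G → V := fun h => if hh : h ∈ H then ⟨_, h1 h hh⟩ else 1
  obtain ⟨b, hb⟩ := cocycle_triv (MulAut.conjNormal (H := V)) hHF hs (fun v hv =>
    Subtype.ext (eq_one_of_bot hC v.2 (mem_centralizer_iff.mpr fun f hf => by
      have := congrArg Subtype.val (hv f hf)
      rw [MulAut.conjNormal_apply, mul_inv_eq_iff_eq_mul] at this
      exact this))) c (fun g hg h hh => by
    apply Subtype.ext
    simp only [c, dif_pos hg, dif_pos hh, dif_pos (mul_mem hg hh), coe_mul, MulAut.conjNormal_apply]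
    group)
  refine ⟨x * b, ⟨mul_mem hx (hVX b.2), mem_centralizer_iff.mpr fun h hh => ?_⟩, ?_⟩
  · have hh : h ∈ H := hh
    have h2 := hb h hh
    rw [eq_mul_inv_iff_mul_eq, mul_comm] at h2
    have h3 := congrArg Subtype.val h2
    simp only [c, dif_pos hh, coe_mul, MulAut.conjNormal_apply] at h3
    calc h * (x * b) = x * (x⁻¹ * (h * x * h⁻¹) * (h * b * h⁻¹)) * h := by group
      _ = _ := by rw [h3]
  · simp [(QuotientGroup.eq_one_iff _).mpr b.2]

end CF.FrobNil
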