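import Cfsg.Agent.FrobNil.A

/-!
# The abelian-by-abelian case
-/

namespace CF.FrobNil

open Subgroup CF.Solv CF.Coprime Cfsg
open scoped Pointwise commutatorElement IsMulCommutative

universe u

variable {G : Type u} [Group G]

/-- `R` is maximal among the subgroups of `Q` with nontrivial fixed points in `V`. -/
def Om (V Q R : Subgroup G) : Prop :=
  R ≤ Q ∧ V ⊓ centralizer (R : Set G) ≠ ⊥ ∧
    ∀ S, R ≤ S → S ≤ Q → V ⊓ centralizer (S : Set G) ≠ ⊥ → S = R

theorem inf_cent_bot (V : Subgroup G) : V ⊓ centralizer ((⊥ : Subgroup G) : Set G) = V :=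
  inf_eq_left.mpr fun x _ => mem_centralizer_iff.mpr fun y hy => by
    rw [mem_bot.mp hy, one_mul, mul_one]

theorem exists_om [Finite G] {V : Subgroup G} (hV : V ≠ ⊥) (Q : Subgroup G) : ∃ R, Om V Q R := by
  obtain ⟨R, hR, hmax⟩ := Set.Finite.exists_maximalFor id
    {R : Subgroup G | R ≤ Q ∧ V ⊓ centralizer (R : Set G) ≠ ⊥} (Set.toFinite _)
    ⟨⊥, bot_le, by rwa [inf_cent_bot]⟩
  exact ⟨R, hR.1, hR.2, fun S h1 h2 h3 => le_antisymm (hmax ⟨h2, h3⟩ h1) h1⟩

theorem inf_cent_conj {V : Subgroup G} [V.Normal] {R : Subgroup G}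
    (h : V ⊓ centralizer (R : Set G) ≠ ⊥) (g : G) :
    V ⊓ centralizer ((MulAut.conj g • R : Subgroup G) : Set G) ≠ ⊥ := by
  obtain ⟨⟨x, hx⟩, hx1⟩ := ne_bot_iff_exists_ne_one.mp h
  refine ne_bot_iff_exists_ne_one.mpr ⟨⟨g * x * g⁻¹, Normal.conj_mem inferInstance _ hx.1 g, ?_⟩,
    fun e => hx1 ?_⟩
  · rw [centralizer_conj_smul]
    exact conj_mem_conj_smul hx.2 g
  · have := congrArg Subtype.val e
    simp only [OneMemClass.coe_one, conj_eq_one_iff] at this
    exact Subtype.ext this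

theorem Om.conj {V Q R : Subgroup G} [V.Normal] (h : Om V Q R) {g : G}
    (hg : g ∈ normalizer (Q : Set G)) : Om V Q (MulAut.conj g • R) := by
  refine ⟨?_, inf_cent_conj h.2.1 g, fun S h1 h2 h3 => ?_⟩
  · rw [← conj_smul_eq_iff.mpr hg]
    exact pointwise_smul_le_pointwise_smul_iff.mpr h.1
  · have := h.2.2 (MulAut.conj g⁻¹ • S) (by
      rw [← pointwise_smul_le_pointwise_smul_iff (a := MulAut.conj g), conj_smul_conj_smul,
        mul_inv_cancel, map_one, one_smul]; exact h1) (by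
      rw [← conj_smul_eq_iff.mpr (inv_mem hg)]
      exact pointwise_smul_le_pointwise_smul_iff.mpr h2) (inf_cent_conj h3 _)
    rw [← this, conj_smul_conj_smul, mul_inv_cancel, map_one, one_smul]

theorem conjNormal_eq_iff {V : Subgroup G} [V.Normal] {g : G} {v : V} :
    MulAut.conjNormal g v = v ↔ g * v = v * g := by
  rw [Subtype.ext_iff, MulAut.conjNormal_apply, mul_inv_eq_iff_eq_mul]

/-- The norm map of `R` on `V`. -/
noncomputable abbrev nm [Finite G] (V : Subgroup G) [V.Normal] [IsMulCommutative V]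
    (R : Subgroup G) : V →* V :=
  normHom ((MulAut.conjNormal (H := V)).comp R.subtype)

theorem nm_cent [Finite G] {V Q R : Subgroup G} [V.Normal] [IsMulCommutative V]
    [IsMulCommutative Q] (hR : R ≤ Q) {c : G} (hc : c ∈ Q) {v : V} (h : c * v = v * c) :
    c * nm V R v = nm V R v * c := by
  have := Fintype.ofFinite R
  rw [← conjNormal_eq_iff] at h ⊢
  rw [Coprime.normHom_apply, map_prod]
  refine Finset.prod_congr rfl fun u _ => ?_
  have e : c * u = u * c := congrArg Subtype.val (mul_comm (⟨c, hc⟩ : Q) ⟨u, hR u.2⟩)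
  simp only [MonoidHom.comp_apply, subtype_apply]
  rw [← MulAut.mul_apply, ← map_mul, e, map_mul, MulAut.mul_apply, h]

theorem Om.nm_eq_one [Finite G] {V Q R S : Subgroup G} [V.Normal] [IsMulCommutative V]
    [IsMulCommutative Q] (hR : Om V Q R) (hS : Om V Q S) (hne : S ≠ R) {y : V}
    (hy : (y : G) ∈ centralizer (S : Set G)) : nm V R y = 1 := by
  by_contra h
  have h1 : (nm V R y : G) ∈ centralizer (R : Set G) := mem_centralizer_iff.mpr fun u hu =>
    conjNormal_eq_iff.mp (smul_normHom ((MulAut.conjNormal (H := V)).comp R.subtype) ⟨u, hu⟩ y)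
  have h2 : (nm V R y : G) ∈ centralizer (S : Set G) := mem_centralizer_iff.mpr fun u hu =>
    nm_cent hR.1 (hS.1 hu) (mem_centralizer_iff.mp hy u hu)
  have h3 : V ⊓ centralizer ((R ⊔ S : Subgroup G) : Set G) ≠ ⊥ := fun e =>
    h (Subtype.ext (eq_one_of_bot e (nm V R y).2 (mem_cent_of_sup h1 h2)))
  exact hne ((hS.2.2 _ le_sup_right (sup_le hR.1 hS.1) h3).symm.trans
    (hR.2.2 _ le_sup_left (sup_le hR.1 hS.1) h3))

theorem Om.trace [Finite G] {V Q R K : Subgroup G} [V.Normal] [IsMulCommutative V]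
    [IsMulCommutative Q] (hR : Om V Q R) (hK : K ≤ normalizer (Q : Set G)) {w : V}
    (hw : (w : G) ∈ centralizer (R : Set G))
    (hw' : (w : G) ∈ centralizer ((K ⊓ normalizer (R : Set G) : Subgroup G) : Set G)) :
    ∃ v : V, (v : G) ∈ centralizer (K : Set G) ∧ nm V R v = w ^ Nat.card R := by
  classical
  have := Fintype.ofFinite V
  let O : Finset V := Finset.univ.filter fun y => ∃ k ∈ K, MulAut.conjNormal k w = y
  have hO : ∀ y, y ∈ O ↔ ∃ k ∈ K, MulAut.conjNormal k w = y := by simp [O]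
  refine ⟨∏ y ∈ O, y, mem_centralizer_iff.mpr fun k hk => conjNormal_eq_iff.mp ?_, ?_⟩
  · rw [map_prod]
    refine Finset.prod_bij (fun y _ => MulAut.conjNormal k y) (fun y hy => ?_)
      (fun a _ b _ h => (MulAut.conjNormal k).injective h)
      (fun y hy => ⟨MulAut.conjNormal k⁻¹ y, ?_, ?_⟩) (fun _ _ => rfl)
    · obtain ⟨l, hl, rfl⟩ := (hO y).mp hy
      exact (hO _).mpr ⟨k * l, mul_mem hk hl, by rw [map_mul, MulAut.mul_apply]⟩
    · obtain ⟨l, hl, rfl⟩ := (hO y).mp hy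
      exact (hO _).mpr ⟨k⁻¹ * l, mul_mem (inv_mem hk) hl, by rw [map_mul, MulAut.mul_apply]⟩
    · rw [← MulAut.mul_apply, ← map_mul, mul_inv_cancel, map_one, MulAut.one_apply]
  · rw [map_prod, ← Finset.mul_prod_erase O _ (a := w) ((hO w).mpr ⟨1, one_mem _, by simp⟩),
      Finset.prod_eq_one, mul_one]
    · exact normHom_of_fixed _ fun u => conjNormal_eq_iff.mpr (mem_centralizer_iff.mp hw u u.2)
    · intro y hy
      obtain ⟨k, hk, rfl⟩ := (hO y).mp (Finset.mem_of_mem_erase hy)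
      refine hR.nm_eq_one (hR.conj (hK hk)) (fun e => Finset.ne_of_mem_erase hy ?_) ?_
      · exact conjNormal_eq_iff.mpr (mem_centralizer_iff.mp hw' k ⟨hk, conj_smul_eq_iff.mp e⟩)
      · rw [centralizer_conj_smul, MulAut.conjNormal_apply]
        exact conj_mem_conj_smul hw k

theorem commute_of_pow {V : Subgroup G} [Finite G] {n : ℕ} (hn : n.Coprime (Nat.card V)) {w : V}
    {c : G} (h : c * (w ^ n : V) = (w ^ n : V) * c) : c * w = w * c := by
  have h1 : (w : G) ∈ zpowers ((w : G) ^ n) := by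
    rw [mem_zpowers_pow_iff]
    rw [orderOf_coe]
    exact hn.coprime_dvd_right (orderOf_dvd_natCard w)
  obtain ⟨k, hk⟩ := h1
  have h2 : Commute c ((w : G) ^ n) := h
  have h3 := h2.zpow_right k
  simp only at hk
  rw [hk] at h3
  exact h3

theorem Om.cent_le [Finite G] {p : ℕ} [Fact p.Prime] {V Q R F H : Subgroup G} [V.Normal]
    [IsMulCommutative V] [IsMulCommutative Q] [Group.IsNilpotent F] (hR : Om V Q R)
    (hV : IsPGroup p V) (hcop : (Nat.card Q).Coprime (Nat.card V))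
    (hFQ : F ≤ normalizer (Q : Set G)) (hHQ : H ≤ normalizer (Q : Set G))
    (hHF : H ≤ normalizer (F : Set G)) (hs : SemiReg H F) (hC : V ⊓ centralizer (F : Set G) = ⊥)
    (hcomm : ∀ c ∈ Q ⊓ centralizer (H : Set G), ∀ v ∈ V ⊓ centralizer (H : Set G), c * v = v * c) :
    Q ⊓ centralizer (H : Set G) ≤ R := by
  have hcop' : (Nat.card R).Coprime (Nat.card V) := hcop.coprime_dvd_left (card_dvd_of_le hR.1)
  have hnR : normalizer (R : Set G) ≤ normalizer
      ((V ⊓ centralizer (R : Set G) : Subgroup G) : Set G) :=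
    le_normalizer_inf le_normalizer_of_normal (normalizer_le_normalizer_centralizer R)
  have : Group.IsNilpotent (F ⊓ normalizer (R : Set G) : Subgroup G) :=
    isNilpotent_of_le inf_le_left
  have : IsMulCommutative (V ⊓ centralizer (R : Set G) : Subgroup G) :=
    ⟨⟨fun a b => Subtype.ext (congrArg Subtype.val (mul_comm (⟨a, a.2.1⟩ : V) ⟨b, b.2.1⟩) :)⟩⟩
  have h1 := fixH_ne_bot (V := V ⊓ centralizer (R : Set G)) (F := F ⊓ normalizer (R : Set G))
    (H := H ⊓ normalizer (R : Set G)) (hV.to_le inf_le_left) hR.2.1 (inf_le_right.trans hnR)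
    (inf_le_right.trans hnR) (le_normalizer_inf (inf_le_left.trans hHF)
      (inf_le_right.trans le_normalizer)) (hs.mono inf_le_left inf_le_left) (by
      rw [eq_bot_iff]
      rintro w ⟨⟨hw, hw1⟩, hw2⟩
      obtain ⟨v, hv, e⟩ := hR.trace hFQ (w := ⟨w, hw⟩) hw1 hw2
      have hv1 : v = 1 := Subtype.ext (eq_one_of_bot hC v.2 hv)
      rw [hv1, map_one] at e
      have := (pow_eq_one_iff_of_coprime (a := (⟨w, hw⟩ : V)) hcop').mp ⟨e.symm, pow_card_eq_one'⟩
      exact congrArg Subtype.val this)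
  obtain ⟨⟨w, ⟨hw, hw1⟩, hw2⟩, hw3⟩ := ne_bot_iff_exists_ne_one.mp h1
  obtain ⟨v, hv, e⟩ := hR.trace hHQ (w := ⟨w, hw⟩) hw1 hw2
  intro c hc
  have h2 := nm_cent (R := R) hR.1 hc.1 (hcomm c hc v ⟨v.2, hv⟩)
  rw [e] at h2
  have h3 : c * w = w * c := commute_of_pow hcop' h2
  have h4 := hR.2.2 (R ⊔ zpowers c) le_sup_left (sup_le hR.1 (zpowers_le_of_mem hc.1)) fun e' =>
    hw3 (Subtype.ext (eq_one_of_bot e' hw (mem_cent_of_sup hw1 (by
      rw [centralizer_zpowers_eq]; exact mem_centralizer_singleton_iff.mpr h3.symm))))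
  rw [← h4]
  exact mem_sup_right (mem_zpowers c)

/-- The core case: `Q` abelian without proper invariant subgroups. -/
theorem core [Finite G] {p q : ℕ} [Fact p.Prime] [Fact q.Prime] {V Q F H : Subgroup G} [V.Normal]
    [IsMulCommutative V] [IsMulCommutative Q] [Group.IsNilpotent F]
    (hV : IsPGroup p V) (hQ : IsPGroup q Q) (hcop : (Nat.card Q).Coprime (Nat.card V))
    (hV1 : V ≠ ⊥) (hFQ : F ≤ normalizer (Q : Set G)) (hHQ : H ≤ normalizer (Q : Set G))
    (hHF : H ≤ normalizer (F : Set G)) (hs : SemiReg H F) (hC : V ⊓ centralizer (F : Set G) = ⊥)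
    (hC' : Q ⊓ centralizer (F : Set G) = ⊥)
    (hcomm : ∀ c ∈ Q ⊓ centralizer (H : Set G), ∀ v ∈ V ⊓ centralizer (H : Set G), c * v = v * c)
    (hmin : ∀ R ≤ Q, F ≤ normalizer (R : Set G) → H ≤ normalizer (R : Set G) → R = ⊥ ∨ R = Q) :
    V ⊓ centralizer (Q : Set G) ≠ ⊥ := by
  intro hVQ
  have hQ1 : Q ≠ ⊥ := by
    rintro rfl
    exact hV1 (by rwa [inf_cent_bot] at hVQ)
  let T : Subgroup G := sInf {R | Om V Q R}
  obtain ⟨R, hR⟩ := exists_om hV1 Q
  have hn : normalizer (Q : Set G) ≤ normalizer (T : Set G) := by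
    rw [le_normalizer_iff]
    intro g hg t ht
    refine mem_sInf.mpr fun S hS => ?_
    have := mem_sInf.mp ht _ (Om.conj hS (inv_mem hg))
    rw [mem_conj_smul_iff] at this
    simpa using this
  have hTR : T ≤ R := sInf_le hR
  rcases hmin T (hTR.trans hR.1) (hFQ.trans hn) (hHQ.trans hn) with h | h
  · refine fixH_ne_bot hQ hQ1 hFQ hHQ hHF hs hC' (eq_bot_iff.mpr ?_)
    rw [← h]
    exact le_sInf fun S hS => Om.cent_le hS hV hcop hFQ hHQ hHF hs hC hcomm
  · refine hR.2.1 (eq_bot_iff.mpr ?_)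
    rw [← hVQ]
    exact inf_le_inf_left _ (centralizer_le (SetLike.coe_subset_coe.mpr (h ▸ hTR)))

end CF.FrobNil
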