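import Cfsg.Agent.FrobNil.B

/-!
# The main induction
-/

namespace CF.FrobNil

open Subgroup CF.Solv CF.Coprime Cfsg
open scoped Pointwise commutatorElement IsMulCommutative

universe u

variable {G : Type u} [Group G]

theorem dvd_card_inf_cent [Finite G] {p : ℕ} [Fact p.Prime] {A Z : Subgroup G} (hA : IsPGroup p A)
    (hAZ : A ≤ normalizer (Z : Set G)) (hZ : p ∣ Nat.card Z) :
    p ∣ Nat.card (Z ⊓ centralizer (A : Set G) : Subgroup G) := by
  let _ : MulAction A Z := MulAction.compHom Z (inclusion hAZ)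
  have h1 := hA.card_modEq_card_fixedPoints Z
  have h2 : Nat.card (MulAction.fixedPoints A Z) =
      Nat.card (Z ⊓ centralizer (A : Set G) : Subgroup G) := by
    refine Nat.card_congr ⟨fun z => ⟨z.1, z.1.2, fun a ha => ?_⟩,
      fun z => ⟨⟨z.1, z.2.1⟩, fun a => Subtype.ext ?_⟩, fun _ => rfl, fun _ => rfl⟩
    · have : a * z.1 * a⁻¹ = z.1 := congrArg Subtype.val (z.2 ⟨a, ha⟩)
      rwa [mul_inv_eq_iff_eq_mul] at this
    · change (a : G) * z.1 * (a : G)⁻¹ = z.1
      rw [mul_inv_eq_iff_eq_mul]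
      exact z.2.2 a a.2
  rw [h2] at h1
  exact (h1.dvd_iff dvd_rfl).mp hZ

/-- The hypotheses of the theorem. -/
structure Hyp (X F H : Subgroup G) : Prop where
  FX : F ≤ normalizer (X : Set G)
  HX : H ≤ normalizer (X : Set G)
  HF : H ≤ normalizer (F : Set G)
  nil : Group.IsNilpotent F
  semi : SemiReg H F
  fix : X ⊓ centralizer (F : Set G) = ⊥
  cen : Group.IsNilpotent (X ⊓ centralizer (H : Set G) : Subgroup G)

variable {X F H : Subgroup G}

theorem Hyp.fix_le (h : Hyp X F H) {Y : Subgroup G} (hY : Y ≤ X) :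
    Y ⊓ centralizer (F : Set G) = ⊥ := eq_bot_iff.mpr (h.fix ▸ inf_le_inf_right _ hY)

theorem Hyp.mono (h : Hyp X F H) {Y : Subgroup G} (hY : Y ≤ X) (h1 : F ≤ normalizer (Y : Set G))
    (h2 : H ≤ normalizer (Y : Set G)) : Hyp Y F H :=
  have := h.cen
  ⟨h1, h2, h.HF, h.nil, h.semi, h.fix_le hY, isNilpotent_of_le (inf_le_inf_right _ hY)⟩

theorem Hyp.subgroupOf (h : Hyp X F H) {L : Subgroup G} (hF : F ≤ L) (hH : H ≤ L) :
    Hyp (X.subgroupOf L) (F.subgroupOf L) (H.subgroupOf L) := by
  have := h.cen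
  have := h.nil
  refine ⟨subgroupOf_le_normalizer h.FX L, subgroupOf_le_normalizer h.HX L,
    subgroupOf_le_normalizer h.HF L, isNilpotent_subgroupOf _ _, h.semi.subgroupOf L, ?_, ?_⟩
  · rw [centralizer_subgroupOf_eq hF, Subgroup.subgroupOf, Subgroup.subgroupOf, ← comap_inf, h.fix]
    simp
  · rw [centralizer_subgroupOf_eq hH, Subgroup.subgroupOf, Subgroup.subgroupOf, ← comap_inf]
    exact isNilpotent_subgroupOf _ _

theorem Hyp.quot [Finite G] (h : Hyp X F H) {p : ℕ} [Fact p.Prime] (V : Subgroup G) [V.Normal]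
    [IsMulCommutative V] (hV : IsPGroup p V) (hVX : V ≤ X) :
    Hyp (X.map (QuotientGroup.mk' V)) (F.map (QuotientGroup.mk' V))
      (H.map (QuotientGroup.mk' V)) := by
  have := h.cen
  have := h.nil
  refine ⟨(map_mono h.FX).trans (le_normalizer_map _), (map_mono h.HX).trans (le_normalizer_map _),
    (map_mono h.HF).trans (le_normalizer_map _), isNilpotent_map _ _, h.semi.map _ h.HF,
    fixF_map V hV hVX h.FX h.fix, ?_⟩
  have := isNilpotent_map (QuotientGroup.mk' V) (X ⊓ centralizer (H : Set G))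
  exact isNilpotent_of_le (fixH_map V hVX h.HF h.semi (h.fix_le hVX))

theorem isMulCommutative_of_le_cent {Q : Subgroup G} (h : Q ≤ centralizer (Q : Set G)) :
    IsMulCommutative Q := ⟨⟨fun a b => Subtype.ext (mem_centralizer_iff.mp (h b.2) a a.2)⟩⟩

theorem le_cent_self (V : Subgroup G) [IsMulCommutative V] : V ≤ centralizer (V : Set G) :=
  fun a ha => mem_centralizer_iff.mpr fun b hb =>
    congrArg Subtype.val (mul_comm (⟨b, hb⟩ : V) ⟨a, ha⟩)

theorem coprime_of_ne [Finite G] {p q : ℕ} [hp : Fact p.Prime] [hq : Fact q.Prime] (hpq : p ≠ q)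
    {G' : Type*} [Group G'] [Finite G'] (hP : IsPGroup p G) (hQ : IsPGroup q G') :
    (Nat.card G).Coprime (Nat.card G') := by
  obtain ⟨a, ha⟩ := IsPGroup.iff_card.mp hP
  obtain ⟨b, hb⟩ := IsPGroup.iff_card.mp hQ
  rw [ha, hb]
  exact Nat.coprime_pow_primes _ _ hp.out hq.out hpq

/-- The case of a nontrivial solvable normal subgroup. -/
theorem step_solv [Finite G] (h : Hyp X F H)
    (hn : ∀ N : Subgroup G, X ≤ normalizer (N : Set G) → F ≤ normalizer (N : Set G) →
      H ≤ normalizer (N : Set G) → N.Normal)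
    (ih1 : ∀ Y < X, F ≤ normalizer (Y : Set G) → H ≤ normalizer (Y : Set G) → Group.IsNilpotent Y)
    (ih2 : ∀ (W : Subgroup G) [W.Normal] [IsMulCommutative W] (r : ℕ) [Fact r.Prime], W ≠ ⊥ →
      W ≤ X → IsPGroup r W → Group.IsNilpotent (X.map (QuotientGroup.mk' W)))
    (N : Subgroup G) [N.Normal] [Group.IsSolvable N] (hN1 : N ≠ ⊥) (hNX : N ≤ X) :
    Group.IsNilpotent X := by
  have := h.nil
  have := h.cen
  have hXn : X.Normal := hn X le_normalizer h.FX h.HX
  obtain ⟨V, p, hp, hVm, hVN, -, hV⟩ := exists_isMinNormal_pGroup_le N hN1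
  have := Fact.mk hp
  have := hVm.1
  have hVX : V ≤ X := hVN.trans hNX
  have : Group.IsSolvable V := Solv.isSolvable_of_le hVN
  have := hVm.isMulCommutative
  have hXV := ih2 V p hVm.2.1 hVX hV
  by_contra hX
  have hc : ¬ X ≤ centralizer (V : Set G) := fun hc => hX (isNilpotent_of_map_of_inf_ker_le
    (f := QuotientGroup.mk' V) (by
      rw [QuotientGroup.ker_mk']; exact inf_le_right.trans (le_centralizer_iff.mp hc)))
  -- a Sylow subgroup not centralizing `V`
  obtain ⟨q, hq, hqp, Q0, hQ0, hQ0c⟩ : ∃ q : ℕ, q.Prime ∧ q ≠ p ∧ ∃ Q0, IsSylowOf q Q0 X ∧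
      ¬ Q0 ≤ centralizer (V : Set G) := by
    by_contra hcon
    push Not at hcon
    obtain ⟨P, hP⟩ := exists_isSylowOf p X
    obtain ⟨z, hz, hz1, hzc⟩ := Fgs1.exists_fixed_of_isPGroup hP.isPGroup
      le_normalizer_of_normal hV hVm.2.1
    have h1 : X ≤ centralizer {z} := le_of_forall_isSylowOf fun r hr _ => by
      by_cases hrp : r = p
      · subst hrp
        exact ⟨P, hP, fun a ha => mem_centralizer_singleton_iff.mpr
          (mem_centralizer_iff.mp hzc a ha)⟩
      · have := Fact.mk hr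
        obtain ⟨R, hR⟩ := exists_isSylowOf r X
        exact ⟨R, hR, (hcon r hr hrp R hR).trans (centralizer_le (by simpa using hz))⟩
    rcases hVm.2.2 (V ⊓ centralizer (X : Set G)) inferInstance inf_le_left with h2 | h2
    · exact hz1 (eq_one_of_bot h2 hz (mem_centralizer_iff.mpr fun a ha =>
        mem_centralizer_singleton_iff.mp (h1 ha)))
    · exact hc (le_centralizer_iff.mp (h2 ▸ inf_le_right))
  have := Fact.mk hq
  let π := QuotientGroup.mk' V
  have hXq : IsPGroup q (X.map π) := by
    let Y := (pc {q} (X.map π)).comap π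
    have hYX : Y ≤ X := by
      refine (comap_mono (pc_le _ _)).trans ?_
      rw [comap_map_mk']
      exact sup_le le_rfl hVX
    have : (X.map π).Normal := hXn.map π (QuotientGroup.mk'_surjective V)
    have : (pc {q} (X.map π)).Normal := inferInstance
    have : Y.Normal := inferInstance
    rcases hYX.eq_or_lt with e | e
    · refine (pc_isPGroup q (X.map π)).to_le ?_
      conv_lhs => rw [← e]
      exact map_comap_le _ _
    · have := ih1 Y e le_normalizer_of_normal le_normalizer_of_normal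
      refine (hQ0c (le_centralizer_of_coprime_of_isNilpotent (K := Y) ?_ (le_comap_mk' V _)
        (coprime_of_ne hqp hQ0.isPGroup hV))).elim
      exact map_le_iff_le_comap.mp (le_pc (map_mono hQ0.le)
        (isPGroup_iff_piNum_singleton.mp (hQ0.isPGroup.map π)))
  have hsup : ∀ Q, IsSylowOf q Q X → X ≤ V ⊔ Q := fun Q hQ => le_of_forall_isSylowOf fun r hr _ => by
    by_cases hrq : r = q
    · subst hrq; exact ⟨Q, hQ, le_sup_right⟩
    · have := Fact.mk hr
      obtain ⟨R, hR⟩ := exists_isSylowOf r X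
      refine ⟨R, hR, le_sup_of_le_left ((map_mk'_eq_bot_iff V R).mp ?_)⟩
      have h1 := coprime_of_ne hrq (hR.isPGroup.map π) (hXq.to_le (map_mono hR.le))
      exact card_eq_one.mp (Nat.coprime_self _ |>.mp h1)
  have : Group.IsNilpotent (pc {p}ᶜ F) := isNilpotent_of_le (pc_le _ F)
  obtain ⟨k, hk, hMQ⟩ := exists_inv_conj (D := pc {p}ᶜ F) (K := V) (M := F ⊔ H)
    le_normalizer_of_normal ((pc_le _ F).trans le_sup_left)
    ((sup_le le_normalizer h.HF).trans (norm_pc _ F)) (pc_coprime F hV)
    (fix_pc hV le_normalizer_of_normal (h.fix_le hVX)) Q0 (fun m _ => by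
      obtain ⟨x, hx, e⟩ := hQ0.conj (hQ0.conj_smul (g := m) (le_normalizer_of_normal (mem_top m)))
      obtain ⟨v, hv, a, ha, rfl⟩ := (mem_sup_of_le_normalizer' le_normalizer_of_normal).mp
        (hsup Q0 hQ0 hx)
      refine ⟨v, hv, ?_⟩
      rw [← e, ← conj_smul_conj_smul, conj_smul_eq_iff.mpr (le_normalizer ha)])
  have hQ : IsSylowOf q (MulAut.conj k • Q0) X := hQ0.conj_smul (le_normalizer_of_normal (mem_top k))
  generalize MulAut.conj k • Q0 = Q at hMQ hQ
  have hFQ := le_sup_left.trans hMQ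
  have hHQ := le_sup_right.trans hMQ
  have hcop := coprime_of_ne hqp hQ.isPGroup hV
  have hVQ : V ⊓ Q = ⊥ := inf_eq_bot_of_coprime hcop.symm
  have hQc : ¬ Q ≤ centralizer (V : Set G) := fun e =>
    hc ((hsup Q hQ).trans (sup_le (le_cent_self V) e))
  have hnV : ∀ A : Subgroup G, A ≤ normalizer ((centralizer (V : Set G) : Subgroup G) : Set G) :=
    fun _ => le_normalizer_of_normal
  have hQV : Q ⊓ centralizer (V : Set G) = ⊥ := by
    by_contra h1
    have : (Q ⊓ centralizer (V : Set G)).Normal := hn _ ((hsup Q hQ).trans (sup_le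
      ((le_centralizer_iff.mp inf_le_right).trans (centralizer_le_normalizer _))
      (le_normalizer_inf le_normalizer (hnV _)))) (le_normalizer_inf hFQ (hnV _))
      (le_normalizer_inf hHQ (hnV _))
    have : Group.IsSolvable (Q ⊓ centralizer (V : Set G) : Subgroup G) := by
      have := (hQ.isPGroup.to_le (inf_le_left (b := centralizer (V : Set G)))).isNilpotent
      infer_instance
    obtain ⟨W, r, hr, hWm, hWN, -, hW⟩ := exists_isMinNormal_pGroup_le _ h1
    have := Fact.mk hr
    have := hWm.1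
    have : Group.IsSolvable W := Solv.isSolvable_of_le hWN
    have := hWm.isMulCommutative
    have hWQ : W ≤ Q := hWN.trans inf_le_left
    have := ih2 W r hWm.2.1 (hWQ.trans hQ.le) hW
    have h2 := le_centralizer_of_coprime_of_isNilpotent (K := X.map (QuotientGroup.mk' W))
      (map_mono hQ.le) (map_mono hVX) (coprime_of_ne hqp (hQ.isPGroup.map _) (hV.map _))
    refine hQc fun a ha => mem_centralizer_iff.mpr fun v hv => ?_
    have h3 : v * a * v⁻¹ * a⁻¹ ∈ W := by
      rw [← QuotientGroup.eq_one_iff]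
      have := mem_centralizer_iff.mp (h2 (mem_map_of_mem _ ha)) _ (mem_map_of_mem _ hv)
      simp only [QuotientGroup.mk'_apply] at this
      simp [this]
    have h4 : v * a * v⁻¹ * a⁻¹ ∈ V := by
      rw [mul_assoc, mul_assoc, ← mul_assoc a]
      exact mul_mem hv (Normal.conj_mem inferInstance _ (inv_mem hv) a)
    have h5 := eq_one_of_bot hVQ h4 (hWQ h3)
    rwa [mul_inv_eq_one, mul_inv_eq_iff_eq_mul] at h5
  have hmin : ∀ R ≤ Q, F ≤ normalizer (R : Set G) → H ≤ normalizer (R : Set G) →
      R = ⊥ ∨ R = Q := by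
    intro R hR h1 h2
    rcases (sup_le (hR.trans hQ.le) hVX).eq_or_lt with e | e
    · right
      have h3 := sup_inf_assoc V hR
      rw [hVQ, sup_bot_eq, e, inf_eq_right.mpr hQ.le] at h3
      exact h3.symm
    · left
      have := ih1 _ e (le_normalizer_sup h1 le_normalizer_of_normal)
        (le_normalizer_sup h2 le_normalizer_of_normal)
      rw [eq_bot_iff, ← hQV]
      exact le_inf hR (le_centralizer_of_coprime_of_isNilpotent (K := R ⊔ V) le_sup_left le_sup_right
        (hcop.coprime_dvd_left (card_dvd_of_le hR)))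
  have hQ1 : Q ≠ ⊥ := fun e => hQc (e ▸ bot_le)
  have : IsMulCommutative Q := by
    obtain ⟨z, hz, hz1, hzc⟩ := Fgs1.exists_fixed_of_isPGroup hQ.isPGroup le_normalizer
      hQ.isPGroup hQ1
    rcases hmin (Q ⊓ centralizer (Q : Set G)) inf_le_left
      (le_normalizer_inf hFQ (hFQ.trans (normalizer_le_normalizer_centralizer Q)))
      (le_normalizer_inf hHQ (hHQ.trans (normalizer_le_normalizer_centralizer Q))) with e | e
    · exact (hz1 (eq_one_of_bot e hz hzc)).elim
    · exact isMulCommutative_of_le_cent (inf_eq_left.mp e)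
  have h1 := core hV hQ.isPGroup hcop hVm.2.1 hFQ hHQ h.HF h.semi (h.fix_le hVX) (h.fix_le hQ.le)
    (fun c hc v hv => (mem_centralizer_iff.mp (le_centralizer_of_coprime_of_isNilpotent
      (K := X ⊓ centralizer (H : Set G)) (inf_le_inf_right _ hQ.le) (inf_le_inf_right _ hVX)
      ((hcop.coprime_dvd_left (card_dvd_of_le inf_le_left)).coprime_dvd_right
        (card_dvd_of_le inf_le_left)) hc) v hv).symm) hmin
  have : (V ⊓ centralizer (Q : Set G)).Normal := hn _ ((hsup Q hQ).trans (sup_le
      ((le_cent_self V).trans ((centralizer_le (SetLike.coe_subset_coe.mpr inf_le_left)).trans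
        (centralizer_le_normalizer _)))
      (le_normalizer_inf le_normalizer_of_normal
        (le_normalizer.trans (normalizer_le_normalizer_centralizer Q)))))
    (le_normalizer_inf le_normalizer_of_normal (hFQ.trans (normalizer_le_normalizer_centralizer Q)))
    (le_normalizer_inf le_normalizer_of_normal (hHQ.trans (normalizer_le_normalizer_centralizer Q)))
  rcases hVm.2.2 _ this inf_le_left with e | e
  · exact h1 e
  · exact hQc (le_centralizer_iff.mp (inf_eq_left.mp e))

end CF.FrobNil
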